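import Cfsg.Agent.H132.S5.Main
import Cfsg.Agent.S0243
import Cfsg.Agent.TwoFusion.SLTwoFacts

/-!
# S2274: using `SBelow` for `PSL_m(F)`

* `card_psl_lt` : `|PSL_m(F)| < |PSL_n(F)|` for `2 ≤ m < n`;
* `SBelow.row` : the strong row of a smaller simple group in any universe `Type`;
* `SBelow.psl` : the strong row of `PSL_m(F)`.
-/

set_option autoImplicit false

universe u

namespace Cfsg.Agent.H716.S5

open Matrix Cfsg.Agent.H533.T5 Cfsg.Agent.H132.S5

theorem prod_gl {q : ℕ} (n : ℕ) :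
    ∏ i : Fin n, (q ^ n - q ^ (i : ℕ)) = q ^ (n * (n - 1) / 2) * ∏ i ∈ Finset.range n, (q ^ (i + 1) - 1) := by
  rw [Fin.prod_univ_eq_prod_range (fun i => q ^ n - q ^ i) n]
  have h1 : ∀ i ∈ Finset.range n, q ^ n - q ^ i = q ^ i * (q ^ (n - i) - 1) := by
    intro i hi
    rw [Finset.mem_range] at hi
    rw [Nat.mul_sub, ← pow_add, Nat.add_sub_cancel' hi.le, mul_one]
  rw [Finset.prod_congr rfl h1, Finset.prod_mul_distrib, Finset.prod_pow_eq_pow_sum, ← Finset.sum_range_id_mul_two]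
  congr 1
  · rw [Nat.mul_div_cancel _ (by norm_num)]
  · rw [← Finset.prod_range_reflect]
    refine Finset.prod_congr rfl fun i hi => ?_
    rw [Finset.mem_range] at hi
    congr 2
    omega

theorem card_psl_succ {F : Type*} [Field F] [Fintype F] {n : ℕ} (hn : 2 ≤ n) :
    Nat.card (ProjectiveSpecialLinearGroup (Fin n) F) <
      Nat.card (ProjectiveSpecialLinearGroup (Fin (n + 1)) F) := by
  set q := Fintype.card F with hF
  have hq : 2 ≤ q := Fintype.one_lt_card
  have h1 := S0243.result hF.symm n hn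
  have h2 := S0243.result hF.symm (n + 1) (by omega)
  rw [prod_gl] at h1 h2
  rw [Finset.prod_range_succ] at h2
  set A := Nat.card (ProjectiveSpecialLinearGroup (Fin n) F) with hA
  set B := Nat.card (ProjectiveSpecialLinearGroup (Fin (n + 1)) F) with hB
  have he : (n + 1) * (n + 1 - 1) / 2 = n + n * (n - 1) / 2 := by
    have : (n + 1) * (n + 1 - 1) = n * 2 + n * (n - 1) := by
      obtain ⟨m, rfl⟩ : ∃ m, n = m + 1 := ⟨n - 1, by omega⟩
      simp only [Nat.add_sub_cancel]
      ring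
    rw [this, Nat.mul_comm n 2, Nat.mul_add_div (by norm_num)]
  rw [he, pow_add] at h2
  have h3 : Nat.gcd (n + 1) (q - 1) * ((q - 1) * B) =
      q ^ n * (q ^ (n + 1) - 1) * (Nat.gcd n (q - 1) * ((q - 1) * A)) := by
    rw [h1, h2]; ring
  have hg1 : Nat.gcd (n + 1) (q - 1) ≤ q - 1 := Nat.gcd_le_right _ (by omega)
  have hg0 : 1 ≤ Nat.gcd n (q - 1) := Nat.gcd_pos_of_pos_left _ (by omega)
  have hA0 : 0 < A := by
    have : Finite (ProjectiveSpecialLinearGroup (Fin n) F) := by
      unfold Matrix.ProjectiveSpecialLinearGroup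
      infer_instance
    exact Nat.card_pos
  have h4 : (q - 1) * B * (q - 1) ≥ q ^ n * (q ^ (n + 1) - 1) * ((q - 1) * A) := by
    calc (q - 1) * B * (q - 1) ≥ Nat.gcd (n + 1) (q - 1) * ((q - 1) * B) := by
          rw [mul_comm]; exact Nat.mul_le_mul_right _ hg1
      _ = q ^ n * (q ^ (n + 1) - 1) * (Nat.gcd n (q - 1) * ((q - 1) * A)) := h3
      _ ≥ q ^ n * (q ^ (n + 1) - 1) * (1 * ((q - 1) * A)) :=
          Nat.mul_le_mul_left _ (Nat.mul_le_mul_right _ hg0)
      _ = _ := by rw [one_mul]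
  have h5 : q ^ n * (q ^ (n + 1) - 1) > q - 1 := by
    have e1 : 1 < q ^ n := Nat.one_lt_pow (by omega) (by omega)
    have e2 : q ≤ q ^ (n + 1) := Nat.le_self_pow (by omega) q
    have e3 : 1 * (q - 1) < q ^ n * (q - 1) := Nat.mul_lt_mul_of_pos_right e1 (by omega)
    have e4 : q ^ n * (q - 1) ≤ q ^ n * (q ^ (n + 1) - 1) := Nat.mul_le_mul_left _ (by omega)
    omega
  by_contra hcon
  push Not at hcon
  have h6 : (q - 1) * B * (q - 1) ≤ (q - 1) * ((q - 1) * A) := by
    calc (q - 1) * B * (q - 1) = (q - 1) * ((q - 1) * B) := by ring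
      _ ≤ _ := Nat.mul_le_mul_left _ (Nat.mul_le_mul_left _ hcon)
  have h7 : (q - 1) * ((q - 1) * A) < q ^ n * (q ^ (n + 1) - 1) * ((q - 1) * A) :=
    Nat.mul_lt_mul_of_pos_right h5 (Nat.mul_pos (by omega) hA0)
  omega

theorem card_psl_lt {F : Type*} [Field F] [Fintype F] {m n : ℕ} (hm : 2 ≤ m) (hmn : m < n) :
    Nat.card (ProjectiveSpecialLinearGroup (Fin m) F) <
      Nat.card (ProjectiveSpecialLinearGroup (Fin n) F) := by
  induction n, hmn using Nat.le_induction with
  | base => exact card_psl_succ hm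
  | succ n hmn ih => exact ih.trans (card_psl_succ (by omega))

/-- Using the rows of the smaller groups. -/
theorem SBelow.row {p N : ℕ} (hlt : SBelow.{u} p N) {K : Type} [Group K] [Finite K]
    [IsSimpleGroup K] (hna : ¬ IsMulCommutative K) (hK : Nat.card K < N) : SRow p K := by
  have e : ULift.{u} K ≃* K := MulEquiv.ulift
  have hs : IsSimpleGroup (ULift.{u} K) := e.isSimpleGroup
  have hna' : ¬ IsMulCommutative (ULift.{u} K) := by
    intro h
    apply hna
    refine ⟨⟨fun a b => ?_⟩⟩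
    apply e.symm.injective
    rw [map_mul, map_mul]
    exact h.is_comm.comm _ _
  exact Cfsg.Agent.H897.T5Sub.SRow.congr e (hlt (ULift.{u} K) hs hna' (by rwa [Nat.card_congr e.toEquiv]))

end Cfsg.Agent.H716.S5
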