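import Cfsg.Agent.H716.S5.Own
import Cfsg.Agent.H140.S5.PSL2Own
import Cfsg.Agent.H212.S5.PslTwo

/-!
# S2274: the family `PSL_n(q)` (dispatcher)

`srowFam_psl_of` : the strong row of the family `IsPSL` from C1 (`PslCross`, cross characteristic, `n ≥ 3`).
-/

set_option autoImplicit false

universe u

namespace Cfsg.Agent.H716.S5

open Cfsg Matrix Cfsg.Agent.H533.T5 Cfsg.Agent.H132.S5

/-- C1: `PSL_n(F)`, `n ≥ 3`, cross characteristic. -/
def PslCross (p : ℕ) : Prop :=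
  ∀ (F : Type) [Field F] [Fintype F] (n : ℕ), 3 ≤ n → ¬ p ∣ Fintype.card F →
    ∀ (S : Type u) [Group S] [Finite S] [IsSimpleGroup S], ¬ IsMulCommutative S →
      SBelow.{u} p (Nat.card S) → (S ≃* ProjectiveSpecialLinearGroup (Fin n) F) → SRow p S

theorem srowFam_psl_of {p : ℕ} (hp : p.Prime) (h5 : 5 ≤ p) (B : SBox.{u} p)
    (hC1 : PslCross.{u} p) : SRowFam.{u} p (fun S _ => IsPSL S) := by
  intro S _ _ _ hna ⟨F, _, _, n, hn, h4, ⟨e⟩⟩ hlt
  have : Fact p.Prime := ⟨hp⟩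
  by_cases hF : p ∣ Fintype.card F
  · have : CharP F p := charP_of_dvd hp hF
    rcases hn.lt_or_eq with h3 | rfl
    · exact srow_psl_own h3 h5 hlt e
    · exact Cfsg.Agent.H140.S5.PSL2Own.srow_psl2_own hp h5 hF B e
  · rcases hn.lt_or_eq with h3 | rfl
    · exact hC1 F n h3 hF S hna hlt e
    · exact Cfsg.Agent.H212.S5.PslTwo.srow_psl2_cross hp h5 hF B hna e

end Cfsg.Agent.H716.S5
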