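import Cfsg.Agent.H716.S5.Fam
import Cfsg.Agent.H957.S5Psl4
import Cfsg.Agent.H869.S5.AB

/-!
# S2274: the family `PSL_n(q)` from C2
-/

set_option autoImplicit false

universe u

namespace Cfsg.Agent.H716.S5

open Cfsg Matrix Cfsg.Agent.H533.T5 Cfsg.Agent.H132.S5 Cfsg.Agent.H957.T5V

/-- C2: `PSL_p(F)`, `p` divides `|F| - 1`: pairs with an element of irreducible type (H869's interface). -/
def PslC2 (p : ℕ) : Prop :=
  ∀ (F : Type) [Field F] [Fintype F], p ∣ Fintype.card F - 1 →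
    SRow p (ProjectiveSpecialLinearGroup (Fin 2) F) →
    ∀ (c d : Equiv.Perm (Fin p → F)) (l : F) (τ : F ≃+* F), Semi (1 : F ≃+* F) c →
      (∀ v, (c ^ p) v = l • v) → (∀ t : F, t ^ p ≠ l) → Semi τ d → IsScal F (d ^ p) →
      ¬ IsScal F d → Cfsg.Agent.H869.S5.BV F p c d ∧ (Cfsg.Agent.H869.S5.AV F c d ∨
        ∃ g : (Fin p → F) ≃ₗ[F] (Fin p → F), LinearEquiv.det g = 1 ∧
          ∃ j : ℕ, Scl F ((toA g * d * (toA g)⁻¹) ^ j) c)

theorem srowFam_psl {p : ℕ} (hp : p.Prime) (h5 : 5 ≤ p) (B : SBox.{u} p)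
    (hC2 : PslC2 p) : SRowFam.{u} p (fun S _ => IsPSL S) := by
  refine srowFam_psl_of hp h5 B ?_
  intro F _ _ n hn hF S _ _ _ hna hlt e
  refine Cfsg.Agent.H957.S5.srow_psl_cross_of hp h5 hF B hlt hn e ?_
  rintro rfl hq hr
  exact hC2 F hq hr

end Cfsg.Agent.H716.S5
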