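import Cfsg.Agent.H716.S5.Fam
import Cfsg.Agent.H869.S5.PslCross

/-!
# S2274: the family `PSL_n(q)`, all primes `p ≥ 5`
-/

set_option autoImplicit false

universe u

namespace Cfsg.Agent.H716.S5

open Cfsg Cfsg.Agent.H533.T5 Cfsg.Agent.H132.S5

/-- **The strong row of the family `PSL`.** -/
theorem srowFam_psl_all {p : ℕ} (hp : p.Prime) (h5 : 5 ≤ p) (B : SBox.{u} p) :
    SRowFam.{u} p (fun S _ => IsPSL S) :=
  srowFam_psl_of hp h5 B fun _ _ _ _ hn hF _ _ _ _ _ hlt e =>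
    Cfsg.Agent.H869.S5.srow_psl_cross hp h5 hF B hlt hn e

end Cfsg.Agent.H716.S5
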